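import Cfsg.Agent.Suzuki.HeSp44.Data
import Cfsg.Agent.Forms.SympOrder

/-!
`Sp₄(4)` and the field automorphism as permutations of the 85 points of projective three-space
-/

set_option autoImplicit false
set_option maxRecDepth 20000

namespace Cfsg.Agent.Suzuki.HeSp44

/-- The field with four elements. -/
inductive F4 : Type
  | o | e | w | v
deriving DecidableEq

namespace F4

instance : Fintype F4 := ⟨{.o, .e, .w, .v}, fun a => by cases a <;> decide⟩

/-- Sum. -/
def addC : F4 → F4 → F4
  | .o, b => b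
  | a, .o => a
  | .e, .e => .o | .e, .w => .v | .e, .v => .w
  | .w, .e => .v | .w, .w => .o | .w, .v => .e
  | .v, .e => .w | .v, .w => .e | .v, .v => .o

/-- Product. -/
def mulC : F4 → F4 → F4
  | .o, _ => .o
  | _, .o => .o
  | .e, b => b
  | a, .e => a
  | .w, .w => .v | .w, .v => .e | .v, .w => .e | .v, .v => .w

/-- Inverse. -/
def invC : F4 → F4
  | .o => .o | .e => .e | .w => .v | .v => .w

instance : Add F4 := ⟨addC⟩
instance : Mul F4 := ⟨mulC⟩
instance : Neg F4 := ⟨id⟩
instance : Inv F4 := ⟨invC⟩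
instance : Zero F4 := ⟨.o⟩
instance : One F4 := ⟨.e⟩

instance instFieldF4 : Field F4 :=
  Field.ofMinimalAxioms F4 (by decide +kernel) (by decide +kernel) (by decide +kernel) (by decide +kernel)
    (by decide +kernel) (by decide +kernel) (by decide +kernel) (by decide +kernel) (by decide +kernel)
    ⟨.o, .e, by decide +kernel⟩

/-- The element with a given two-bit code. -/
def ofN : ℕ → F4
  | 1 => .e | 2 => .w | 3 => .v | _ => .o

/-- The two-bit code. -/
def toN : F4 → ℕ
  | .o => 0 | .e => 1 | .w => 2 | .v => 3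

theorem card_eq : Fintype.card F4 = 4 := by decide +kernel

/-- The field automorphism. -/
def sq : F4 →+* F4 where
  toFun x := x * x
  map_one' := by decide +kernel
  map_mul' := by decide +kernel
  map_zero' := by decide +kernel
  map_add' := by decide +kernel

theorem sq_sq : ∀ x : F4, sq (sq x) = x := by decide +kernel

end F4

open Matrix

local notation "Ix" => (Fin 2 ⊕ Fin 2)
local notation "V" => (Fin 2 ⊕ Fin 2 → F4)
local notation "Sp" => Matrix.symplecticGroup (Fin 2) F4

/-- A vector from its coordinates. -/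
def mk4 (x y z t : F4) : V := Sum.elim ![x, y] ![z, t]

/-- A vector from its code. -/
def dec (n : ℕ) : V := mk4 (F4.ofN (n % 4)) (F4.ofN (n / 4 % 4)) (F4.ofN (n / 16 % 4)) (F4.ofN (n / 64 % 4))

/-- The code of a vector. -/
def cod (u : V) : ℕ :=
  F4.toN (u (.inl 0)) + 4 * F4.toN (u (.inl 1)) + 16 * F4.toN (u (.inr 0)) + 64 * F4.toN (u (.inr 1))

theorem eq_mk4 (u : V) : u = mk4 (u (.inl 0)) (u (.inl 1)) (u (.inr 0)) (u (.inr 1)) := by
  funext i
  rcases i with i | i <;> fin_cases i <;> rfl

/-- The chosen vector of a point. -/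
def pt (i : Fin 85) : V := dec (ptTab.getD i 0)

/-- The point of a vector (meaningful away from zero). -/
def idx (u : V) : Fin 85 := ⟨idxTab.getD (cod u) 85 % 85, Nat.mod_lt _ (by norm_num)⟩

theorem idx_smul : ∀ a : F4, a ≠ 0 → ∀ i : Fin 85, idx (a • pt i) = i := by decide +kernel

theorem pt_ne : ∀ i : Fin 85, pt i ≠ 0 := by decide +kernel

theorem idx_cover : ∀ x y z t : F4, mk4 x y z t = 0 ∨
    ∃ a : F4, a ≠ 0 ∧ mk4 x y z t = a • pt (idx (mk4 x y z t)) := by decide +kernel

theorem exists_smul {u : V} (hu : u ≠ 0) : ∃ a : F4, a ≠ 0 ∧ u = a • pt (idx u) := by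
  rcases idx_cover (u (.inl 0)) (u (.inl 1)) (u (.inr 0)) (u (.inr 1)) with h | h
  · exact absurd ((eq_mk4 u).trans h) hu
  · rwa [← eq_mk4 u] at h

theorem smul_pt_inj {a b : F4} (ha : a ≠ 0) (hb : b ≠ 0) {i j : Fin 85} (h : a • pt i = b • pt j) : i = j := by
  rw [← idx_smul a ha i, h, idx_smul b hb j]

theorem mulVec_ne {A : Sp} {u : V} (hu : u ≠ 0) : (A : Matrix Ix Ix F4) *ᵥ u ≠ 0 := by
  intro h
  apply hu
  have h1 : ((A⁻¹ * A : Sp) : Matrix Ix Ix F4) = 1 := by rw [inv_mul_cancel]; rfl
  rw [Submonoid.coe_mul] at h1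
  rw [← one_mulVec u, ← h1, ← mulVec_mulVec, h, mulVec_zero]

/-- A matrix on points. -/
def act85 (A : Matrix Ix Ix F4) (i : Fin 85) : Fin 85 := idx (A *ᵥ pt i)

theorem act85_spec (A : Sp) (i : Fin 85) :
    ∃ a : F4, a ≠ 0 ∧ (A : Matrix Ix Ix F4) *ᵥ pt i = a • pt (act85 A i) :=
  exists_smul (mulVec_ne (pt_ne i))

theorem act85_mul (A B : Sp) (i : Fin 85) :
    act85 ((A * B : Sp) : Matrix Ix Ix F4) i = act85 A (act85 B i) := by
  obtain ⟨a, ha, hB⟩ := act85_spec B i
  obtain ⟨b, hb, hA⟩ := act85_spec A (act85 (B : Matrix Ix Ix F4) i)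
  rw [act85, Submonoid.coe_mul, ← mulVec_mulVec, hB, mulVec_smul, hA, smul_smul,
    idx_smul _ (mul_ne_zero ha hb)]

theorem act85_one (i : Fin 85) : act85 ((1 : Sp) : Matrix Ix Ix F4) i = i := by
  have h := idx_smul 1 one_ne_zero i
  rw [one_smul] at h
  show idx ((1 : Matrix Ix Ix F4) *ᵥ pt i) = i
  rw [one_mulVec, h]

/-- The permutation of a symplectic matrix. -/
def spPerm : Sp →* Equiv.Perm (Fin 85) where
  toFun A :=
    { toFun := act85 A
      invFun := act85 ((A⁻¹ : Sp) : Matrix Ix Ix F4)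
      left_inv := fun i => by rw [← act85_mul, inv_mul_cancel, act85_one]
      right_inv := fun i => by rw [← act85_mul, mul_inv_cancel, act85_one] }
  map_one' := Equiv.ext fun i => act85_one i
  map_mul' A B := Equiv.ext fun i => act85_mul A B i

theorem spPerm_injective : Function.Injective spPerm := by
  rw [injective_iff_map_eq_one]
  intro A hA
  have hfix : ∀ u : V, u ≠ 0 → ∃ a : F4, (A : Matrix Ix Ix F4) *ᵥ u = a • u := by
    intro u hu
    obtain ⟨b, hb, hub⟩ := exists_smul hu
    obtain ⟨a, -, ha⟩ := act85_spec A (idx u)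
    have hi : act85 (A : Matrix Ix Ix F4) (idx u) = idx u := congrArg (fun σ => σ (idx u)) hA
    rw [hi] at ha
    refine ⟨a, ?_⟩
    conv_lhs => rw [hub, mulVec_smul, ha]
    conv_rhs => rw [hub]
    exact smul_comm _ _ _
  have hcol : ∀ k, ∃ a : F4, ∀ i, (A : Matrix Ix Ix F4) i k = if i = k then a else 0 := by
    intro k
    obtain ⟨a, ha⟩ := hfix (Pi.single k 1) (by simp)
    refine ⟨a, fun i => ?_⟩
    have := congrFun ha i
    rw [mulVec_single_one] at this
    simpa [Pi.single_apply] using this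
  choose d hd using hcol
  obtain ⟨s, hs⟩ := hfix (fun _ => 1) (fun h => one_ne_zero (congrFun h (.inl 0)))
  have hds : ∀ k, d k = s := fun k => by
    have := congrFun hs k
    simpa [mulVec, dotProduct, hd] using this
  have hAs : (A : Matrix Ix Ix F4) = Matrix.of fun i k => if i = k then s else 0 := by
    ext i k
    rw [hd, hds]
    rfl
  have key : ∀ s : F4, (Matrix.of fun i k : Ix => if i = k then s else 0) * Matrix.J (Fin 2) F4 *
      (Matrix.of fun i k : Ix => if i = k then s else 0)ᵀ = Matrix.J (Fin 2) F4 →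
      (Matrix.of fun i k : Ix => if i = k then s else 0) = 1 := by decide +kernel
  have hm := SymplecticGroup.mem_iff.1 A.2
  rw [hAs] at hm
  exact Subtype.ext (hAs.trans (key s hm))

/-- The field automorphism on points. -/
def frobPt (i : Fin 85) : Fin 85 := idx fun k => F4.sq (pt i k)

theorem frobPt_invol : ∀ i, frobPt (frobPt i) = i := by decide +kernel

/-- The field automorphism as a permutation. -/
def frob : Equiv.Perm (Fin 85) := ⟨frobPt, frobPt, frobPt_invol, frobPt_invol⟩

theorem frob_mul_self : frob * frob = 1 := Equiv.ext frobPt_invol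

theorem frobPt_spec (i : Fin 85) : ∃ a : F4, a ≠ 0 ∧ (fun k => F4.sq (pt i k)) = a • pt (frobPt i) := by
  refine exists_smul fun h => pt_ne i (funext fun k => ?_)
  exact (map_eq_zero F4.sq).1 (congrFun h k)

/-- The field automorphism on symplectic matrices. -/
def spFrob (A : Sp) : Sp :=
  ⟨(A : Matrix Ix Ix F4).map F4.sq, by
    have hJ : (Matrix.J (Fin 2) F4).map F4.sq = Matrix.J (Fin 2) F4 := by decide +kernel
    have h := congrArg (fun M : Matrix Ix Ix F4 => M.map F4.sq) (SymplecticGroup.mem_iff.1 A.2)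
    simp only [Matrix.map_mul, Matrix.transpose_map, hJ] at h
    exact SymplecticGroup.mem_iff.2 h⟩

theorem frob_conj (A : Sp) : frob * spPerm A = spPerm (spFrob A) * frob := by
  refine Equiv.ext fun i => ?_
  obtain ⟨a, ha, hA⟩ := act85_spec A i
  obtain ⟨b, hb, hi⟩ := frobPt_spec i
  obtain ⟨c, hc, hj⟩ := frobPt_spec (act85 A i)
  obtain ⟨d, hd, hS⟩ := act85_spec (spFrob A) (frobPt i)
  show frobPt (act85 A i) = act85 (spFrob A) (frobPt i)
  have e1 : (fun k => F4.sq (((A : Matrix Ix Ix F4) *ᵥ pt i) k)) =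
      ((spFrob A : Sp) : Matrix Ix Ix F4) *ᵥ fun k => F4.sq (pt i k) := by
    funext k
    exact RingHom.map_mulVec F4.sq _ _ k
  have e2 : (fun k => F4.sq (((A : Matrix Ix Ix F4) *ᵥ pt i) k)) = F4.sq a • fun k => F4.sq (pt (act85 A i) k) := by
    funext k
    rw [hA]
    simp [Pi.smul_apply]
  rw [e1, hi, mulVec_smul, hS, hj, smul_smul, smul_smul] at e2
  exact (smul_pt_inj (mul_ne_zero hb hd) (mul_ne_zero ((map_ne_zero F4.sq).2 ha) hc) e2).symm

theorem card_sp : Nat.card Sp = 979200 := by
  rw [Forms.card_symplecticGroup F4.card_eq]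
  decide +kernel

theorem card_range : Nat.card spPerm.range = 979200 :=
  (Nat.card_congr (MonoidHom.ofInjective spPerm_injective).toEquiv).symm.trans card_sp

theorem frob_conj' {x : Equiv.Perm (Fin 85)} (hx : x ∈ spPerm.range) : frob * x * frob ∈ spPerm.range := by
  obtain ⟨A, rfl⟩ := hx
  exact ⟨spFrob A, by rw [frob_conj, mul_assoc, frob_mul_self, mul_one]⟩

/-- The semilinear group. -/
def gammaSp : Subgroup (Equiv.Perm (Fin 85)) where
  carrier := {x | x ∈ spPerm.range ∨ x * frob ∈ spPerm.range}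
  one_mem' := Or.inl (one_mem _)
  mul_mem' := by
    intro x y hx hy
    rcases hx with hx | hx <;> rcases hy with hy | hy
    · exact Or.inl (mul_mem hx hy)
    · exact Or.inr (by rw [mul_assoc]; exact mul_mem hx hy)
    · refine Or.inr ?_
      have h := mul_mem hx (frob_conj' hy)
      rwa [show x * frob * (frob * y * frob) = x * (frob * frob) * y * frob by group,
        frob_mul_self, mul_one] at h
    · refine Or.inl ?_
      have h := mul_mem hx (frob_conj' hy)
      rwa [show x * frob * (frob * (y * frob) * frob) = x * (frob * frob) * y * (frob * frob) by group,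
        frob_mul_self, mul_one, mul_one] at h
  inv_mem' := by
    intro x hx
    rcases hx with hx | hx
    · exact Or.inl (inv_mem hx)
    · refine Or.inr ?_
      have h := frob_conj' (inv_mem hx)
      rwa [show frob * (x * frob)⁻¹ * frob = x⁻¹ * frob by group] at h

theorem card_gammaSp_le : Nat.card gammaSp ≤ 1958400 := by
  classical
  let f : gammaSp → spPerm.range × Bool := fun x =>
    if h : (x : Equiv.Perm (Fin 85)) ∈ spPerm.range then (⟨x, h⟩, true)
    else (⟨(x : Equiv.Perm (Fin 85)) * frob, x.2.resolve_left h⟩, false)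
  have hf : Function.Injective f := by
    intro x y hxy
    simp only [f] at hxy
    split_ifs at hxy with h1 h2 h2
    · exact Subtype.ext (congrArg (fun z => ((z.1 : spPerm.range) : Equiv.Perm (Fin 85))) hxy)
    · exact absurd (congrArg Prod.snd hxy) (by simp)
    · exact absurd (congrArg Prod.snd hxy) (by simp)
    · exact Subtype.ext (mul_right_cancel (congrArg (fun z => ((z.1 : spPerm.range) : Equiv.Perm (Fin 85))) hxy))
  refine (Nat.card_le_card_of_injective f hf).trans ?_
  rw [Nat.card_prod, card_range]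
  simp

end Cfsg.Agent.Suzuki.HeSp44
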