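import Cfsg.Agent.FGS2.He.Act
import Cfsg.Agent.Suzuki.HeSp44.Sp

/-!
The point stabiliser of the presented Held group on 2058 cosets is `Sp₄(4):2`
-/

set_option autoImplicit false
set_option maxRecDepth 100000

namespace Cfsg.Agent.Suzuki.HeSp44

open Cfsg.Agent.Screen.CosetEnum Cfsg.Agent.FGS2.He

local notation "Q" => Cfsg.Spor.He
local notation "Ix" => (Fin 2 ⊕ Fin 2)
local notation "Sp" => Matrix.symplecticGroup (Fin 2) F4

/-- The word of a generator of the subgroup. -/
def subW (j : Fin 7) : List ℕ := (HeS44.tbl.subs.getD j []).reverse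

/-- The subgroup. -/
def stab0 : Subgroup Q :=
  Subgroup.closure {g | ∃ w ∈ HeS44.tbl.subs, g = evalW PresHe.gens w}

/-- A generator of the subgroup. -/
noncomputable def subGen (j : Fin 7) : Q := kE (subW j)

theorem subW_ok : ∀ j, lOK (subW j) = true := by decide +kernel

theorem subs_length : HeS44.tbl.subs.length = 7 := by decide +kernel

theorem subGen_eq (j : Fin 7) : subGen j = evalW PresHe.gens (HeS44.tbl.subs.getD j []) := by
  rw [subGen, subW, kE, List.reverse_reverse]

theorem stab0_eq : stab0 = Subgroup.closure (Set.range subGen) := by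
  refine congrArg Subgroup.closure (Set.ext fun g => ⟨?_, ?_⟩)
  · rintro ⟨w, hw, rfl⟩
    obtain ⟨i, hi, rfl⟩ := List.mem_iff_getElem.1 hw
    exact ⟨⟨i, subs_length ▸ hi⟩, by rw [subGen_eq, List.getD_eq_getElem _ _ hi]⟩
  · rintro ⟨j, rfl⟩
    refine ⟨_, ?_, subGen_eq j⟩
    rw [List.getD_eq_getElem _ _ (subs_length.symm ▸ j.2)]
    exact List.getElem_mem _

theorem subGen_mem (j : Fin 7) : subGen j ∈ stab0 := stab0_eq ▸ Subgroup.subset_closure ⟨j, rfl⟩

theorem exists_coset_equiv : ∃ e : Pt ≃ Q ⧸ stab0, e ⟨0, Nat.zero_lt_succ _⟩ = (QuotientGroup.mk 1 : Q ⧸ stab0) ∧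
    ∀ (g : Q) c, g • e c = e (rep g c) :=
  HeS44.checked.exists_equiv PresHe.gens PresHe.gens_sq (fun x hx => PresHe.gens_out x hx)
    (fun w hw => PresHe.gens_rels w hw) PresHe.gens_top stab0 rfl rep rep_gens

theorem index_stab0 : stab0.index = 2058 := by
  obtain ⟨e, -, -⟩ := exists_coset_equiv
  rw [Subgroup.index, ← Nat.card_congr e]
  exact Nat.card_fin _

theorem mem_stab0_iff {g : Q} : g ∈ stab0 ↔ rep g ⟨0, Nat.zero_lt_succ _⟩ = ⟨0, Nat.zero_lt_succ _⟩ := by
  obtain ⟨e, he0, he⟩ := exists_coset_equiv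
  rw [← e.injective.eq_iff, ← he, he0, MulAction.Quotient.smul_mk, smul_eq_mul, mul_one, QuotientGroup.eq,
    mul_one, inv_mem_iff]

theorem rep_transitive (x y : Pt) : ∃ g : Q, rep g x = y := by
  obtain ⟨e, -, he⟩ := exists_coset_equiv
  obtain ⟨g, hg⟩ := MulAction.exists_smul_eq Q (e x) (e y)
  exact ⟨g, e.injective (by rw [← he, hg])⟩

theorem card_stab0 (hcard : Nat.card Q = 4030387200) : Nat.card stab0 = 1958400 := by
  have h := Subgroup.card_mul_index stab0
  rw [index_stab0, hcard] at h
  omega

/-- The label of a coset. -/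
def lab (c : ℕ) : ℕ := Nat.land (Nat.shiftRight labCode (7 * c)) 127

/-- A generator on the blocks. -/
def gfun (j : Fin 7) (i : Fin 85) : Fin 85 :=
  ⟨(genTab.getD j []).getD i 0 % 85, Nat.mod_lt _ (by norm_num)⟩

/-- Its inverse. -/
def gfunInv (j : Fin 7) (i : Fin 85) : Fin 85 :=
  ⟨(genInvTab.getD j []).getD i 0 % 85, Nat.mod_lt _ (by norm_num)⟩

theorem gfun_left : ∀ j i, gfunInv j (gfun j i) = i := by decide +kernel

theorem gfun_right : ∀ j i, gfun j (gfunInv j i) = i := by decide +kernel

/-- A generator as a permutation of the blocks. -/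
def gperm (j : Fin 7) : Equiv.Perm (Fin 85) := ⟨gfun j, gfunInv j, gfun_left j, gfun_right j⟩

/-- Extend a permutation of the blocks to all labels. -/
def ext (σ : Equiv.Perm (Fin 85)) (k : ℕ) : ℕ := if h : k < 85 then σ ⟨k, h⟩ else k

theorem ext_one (k : ℕ) : ext 1 k = k := by unfold ext; split <;> rfl

theorem ext_mul (σ τ : Equiv.Perm (Fin 85)) (k : ℕ) : ext (σ * τ) k = ext σ (ext τ k) := by
  unfold ext
  by_cases h : k < 85
  · simp [h, (τ ⟨k, h⟩).isLt]
  · simp [h]

/-- Check one generator on the first `n` cosets. -/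
def labGo (j : Fin 7) : ℕ → Bool
  | 0 => true
  | c + 1 => (force (lab c) fun l => Nat.beq (lab (act (subW j) c))
      (if Nat.blt l 85 then (genTab.getD j []).getD l 0 % 85 else l)) && labGo j c

theorem labGo_spec {j : Fin 7} : ∀ {n}, labGo j n = true → ∀ c < n,
    lab (act (subW j) c) = ext (gperm j) (lab c)
  | 0, _, c, hc => absurd hc (Nat.not_lt_zero c)
  | n + 1, h, c, hc => by
    simp only [labGo, Bool.and_eq_true, force_eq] at h
    rcases Nat.lt_or_ge c n with hc' | hc'
    · exact labGo_spec h.2 c hc'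
    · obtain rfl : c = n := by omega
      have h1 := Nat.eq_of_beq_eq_true h.1
      rw [h1]
      unfold ext
      by_cases hl : lab c < 85
      · simp [hl, gperm, gfun, Nat.blt_eq]
      · simp [hl, Nat.blt_eq]

theorem lab_ok0 : labGo 0 2058 = true := by decide +kernel
theorem lab_ok1 : labGo 1 2058 = true := by decide +kernel
theorem lab_ok2 : labGo 2 2058 = true := by decide +kernel
theorem lab_ok3 : labGo 3 2058 = true := by decide +kernel
theorem lab_ok4 : labGo 4 2058 = true := by decide +kernel
theorem lab_ok5 : labGo 5 2058 = true := by decide +kernel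
theorem lab_ok6 : labGo 6 2058 = true := by decide +kernel

theorem lab_ok (j : Fin 7) : labGo j 2058 = true := by
  fin_cases j
  exacts [lab_ok0, lab_ok1, lab_ok2, lab_ok3, lab_ok4, lab_ok5, lab_ok6]

theorem blockPt_ok : ∀ i : Fin 85, blockPt.getD i 0 < 2058 ∧ lab (blockPt.getD i 0) = i := by decide +kernel

/-- An element permutes the blocks as a given permutation. -/
def Induces (g : Q) (σ : Equiv.Perm (Fin 85)) : Prop := ∀ c : Pt, lab (rep g c : Pt) = ext σ (lab c)

theorem induces_unique {g : Q} {σ τ : Equiv.Perm (Fin 85)} (h : Induces g σ) (h' : Induces g τ) : σ = τ := by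
  refine Equiv.ext fun i => Fin.ext ?_
  have e := (h ⟨_, (blockPt_ok i).1⟩).symm.trans (h' ⟨_, (blockPt_ok i).1⟩)
  simp only [(blockPt_ok i).2] at e
  simpa [ext, i.isLt] using e

theorem induces_one : Induces 1 1 := fun c => by rw [map_one, Equiv.Perm.one_apply, ext_one]

theorem induces_mul {g h : Q} {σ τ : Equiv.Perm (Fin 85)} (hg : Induces g σ) (hh : Induces h τ) :
    Induces (g * h) (σ * τ) := fun c => by
  rw [map_mul, Equiv.Perm.mul_apply, hg, hh, ext_mul]

theorem induces_inv {g : Q} {σ : Equiv.Perm (Fin 85)} (hg : Induces g σ) : Induces g⁻¹ σ⁻¹ := fun c => by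
  have h := hg (rep g⁻¹ c)
  rw [← Equiv.Perm.mul_apply, ← map_mul, mul_inv_cancel, map_one, Equiv.Perm.one_apply] at h
  rw [h, ← ext_mul, inv_mul_cancel, ext_one]

theorem induces_subGen (j : Fin 7) : Induces (subGen j) (gperm j) := fun c => by
  rw [subGen, act_spec (subW_ok j)]
  exact labGo_spec (lab_ok j) c c.isLt

theorem exists_induces {g : Q} (hg : g ∈ stab0) : ∃ σ, Induces g σ := by
  rw [stab0_eq] at hg
  induction hg using Subgroup.closure_induction with
  | mem y hy => obtain ⟨j, rfl⟩ := hy; exact ⟨_, induces_subGen j⟩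
  | one => exact ⟨1, induces_one⟩
  | mul a b _ _ ha hb => exact ⟨_, induces_mul ha.choose_spec hb.choose_spec⟩
  | inv a _ ha => exact ⟨_, induces_inv ha.choose_spec⟩

/-- The action on the blocks. -/
noncomputable def blockHom : stab0 →* Equiv.Perm (Fin 85) where
  toFun g := (exists_induces g.2).choose
  map_one' := induces_unique (exists_induces (1 : stab0).2).choose_spec induces_one
  map_mul' g h := induces_unique (exists_induces (g * h).2).choose_spec
    (induces_mul (exists_induces g.2).choose_spec (exists_induces h.2).choose_spec)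

theorem blockHom_gen (j : Fin 7) : blockHom ⟨subGen j, subGen_mem j⟩ = gperm j :=
  induces_unique (exists_induces (subGen_mem j)).choose_spec (induces_subGen j)

/-- A word in the generators on a block. -/
def run (w : List ℕ) (i : Fin 85) : Fin 85 :=
  w.foldr (fun j x => gfun ⟨j % 7, Nat.mod_lt _ (by norm_num)⟩ x) i

theorem run_mem : ∀ w : List ℕ, ∃ g : stab0, ∀ i, blockHom g i = run w i
  | [] => ⟨1, fun i => by rw [map_one]; rfl⟩
  | j :: w => by
    obtain ⟨g, hg⟩ := run_mem w
    exact ⟨⟨subGen ⟨j % 7, Nat.mod_lt _ (by norm_num)⟩, subGen_mem _⟩ * g, fun i => by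
      rw [map_mul, Equiv.Perm.mul_apply, blockHom_gen, hg]; rfl⟩

/-- The check of one level of the base of the block action. -/
def transOK (pre : List (Fin 85)) (start : Fin 85) (size : ℕ) (T : List (List ℕ)) : Bool :=
  (T.all fun w => pre.all fun c => decide (run w c = c)) && decide ((T.map fun w => run w start).Nodup) &&
    decide (T.length = size)

theorem trans_spec {pre : List (Fin 85)} {start : Fin 85} {size : ℕ} {T : List (List ℕ)}
    (h : transOK pre start size T = true) :
    ∃ t : Fin size → stab0, (∀ i, ∀ c ∈ pre, blockHom (t i) c = c) ∧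
      Function.Injective fun i => blockHom (t i) start := by
  simp only [transOK, Bool.and_eq_true, List.all_eq_true, decide_eq_true_eq] at h
  obtain ⟨⟨hfix, hnd⟩, hlen⟩ := h
  subst hlen
  choose t ht using fun i : Fin T.length => run_mem T[i]
  refine ⟨t, fun i c hc => by rw [ht]; exact hfix _ (List.getElem_mem _) c hc, fun i j hij => ?_⟩
  simp only [ht] at hij
  have hi : (i : ℕ) < (T.map fun w => run w start).length := by simp
  have hj : (j : ℕ) < (T.map fun w => run w start).length := by simp
  exact Fin.ext ((hnd.getElem_inj_iff (hi := hi) (hj := hj)).1 (by simpa using hij))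

theorem trans0_ok : transOK [] 0 85 trans0 = true := by decide +kernel
theorem trans1_ok : transOK [0] 7 64 trans1 = true := by decide +kernel
theorem trans2_ok : transOK [0, 7] 10 45 trans2 = true := by decide +kernel
theorem trans3_ok : transOK [0, 7, 10] 2 8 trans3 = true := by decide +kernel

theorem le_card_range : 1958400 ≤ Nat.card blockHom.range := by
  obtain ⟨t0, -, i0⟩ := trans_spec trans0_ok
  obtain ⟨t1, f1, i1⟩ := trans_spec trans1_ok
  obtain ⟨t2, f2, i2⟩ := trans_spec trans2_ok
  obtain ⟨t3, f3, i3⟩ := trans_spec trans3_ok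
  let φ : Fin 85 × Fin 64 × Fin 45 × Fin 8 → blockHom.range := fun x =>
    ⟨blockHom (t0 x.1 * (t1 x.2.1 * (t2 x.2.2.1 * t3 x.2.2.2))), _, rfl⟩
  have hφ : Function.Injective φ := by
    rintro ⟨a, b, c, d⟩ ⟨a', b', c', d'⟩ he
    have h := fun p => congrArg (fun σ : blockHom.range => (σ : Equiv.Perm (Fin 85)) p) he
    have e0 := h 0
    have e1 := h 7
    have e2 := h 10
    have e3 := h 2
    have a10 : ∀ i, blockHom (t1 i) 0 = 0 := fun i => f1 i 0 (by decide)
    have a20 : ∀ i, blockHom (t2 i) 0 = 0 := fun i => f2 i 0 (by decide)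
    have a21 : ∀ i, blockHom (t2 i) 7 = 7 := fun i => f2 i 7 (by decide)
    have a30 : ∀ i, blockHom (t3 i) 0 = 0 := fun i => f3 i 0 (by decide)
    have a31 : ∀ i, blockHom (t3 i) 7 = 7 := fun i => f3 i 7 (by decide)
    have a32 : ∀ i, blockHom (t3 i) 10 = 10 := fun i => f3 i 10 (by decide)
    simp only [φ, map_mul, Equiv.Perm.mul_apply, a10, a20, a21, a30, a31, a32] at e0 e1 e2 e3
    obtain rfl := i0 e0
    obtain rfl := i1 ((blockHom (t0 a)).injective e1)
    obtain rfl := i2 ((blockHom (t1 b)).injective ((blockHom (t0 a)).injective e2))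
    obtain rfl := i3 ((blockHom (t2 c)).injective ((blockHom (t1 b)).injective ((blockHom (t0 a)).injective e3)))
    rfl
  have h := Nat.card_le_card_of_injective φ hφ
  simpa [Nat.card_prod, Nat.card_fin] using h

/-- The matrix of a generator. -/
def genMat (j : Fin 7) : Matrix Ix Ix F4 :=
  Matrix.of fun r c => dec ((matTab.getD j []).getD (Sum.elim (fun k : Fin 2 => (k : ℕ)) (fun k : Fin 2 => 2 + (k : ℕ)) r) 0) c

theorem genMat_mem : ∀ j, genMat j * Matrix.J (Fin 2) F4 * (genMat j).transpose = Matrix.J (Fin 2) F4 := by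
  decide +kernel

/-- The matrix of a generator in the symplectic group. -/
def genSp (j : Fin 7) : Sp := ⟨genMat j, SymplecticGroup.mem_iff.2 (genMat_mem j)⟩

theorem gperm_eq : ∀ j i, gfun j i = act85 (genMat j) (if frobTab.getD j false then frobPt i else i) := by
  decide +kernel

theorem gperm_mem (j : Fin 7) : gperm j ∈ gammaSp := by
  cases hb : frobTab.getD (j : ℕ) false with
  | false =>
    refine Or.inl ⟨genSp j, Equiv.ext fun i => ?_⟩
    have := gperm_eq j i
    rw [hb, if_neg (by simp)] at this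
    exact this.symm
  | true =>
    refine Or.inr ⟨genSp j, Equiv.ext fun i => ?_⟩
    have := gperm_eq j (frobPt i)
    rw [hb, if_pos rfl, frobPt_invol] at this
    exact this.symm

theorem induces_gamma {g : Q} (hg : g ∈ stab0) : ∃ σ ∈ gammaSp, Induces g σ := by
  rw [stab0_eq] at hg
  induction hg using Subgroup.closure_induction with
  | mem y hy => obtain ⟨j, rfl⟩ := hy; exact ⟨_, gperm_mem j, induces_subGen j⟩
  | one => exact ⟨1, one_mem _, induces_one⟩
  | mul a b _ _ ha hb =>
    obtain ⟨σ, hσ, ha⟩ := ha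
    obtain ⟨τ, hτ, hb⟩ := hb
    exact ⟨_, mul_mem hσ hτ, induces_mul ha hb⟩
  | inv a _ ha =>
    obtain ⟨σ, hσ, ha⟩ := ha
    exact ⟨_, inv_mem hσ, induces_inv ha⟩

theorem range_le : blockHom.range ≤ gammaSp := by
  rintro _ ⟨⟨g, hg⟩, rfl⟩
  obtain ⟨σ, hσ, h⟩ := induces_gamma hg
  rw [show blockHom ⟨g, hg⟩ = σ from induces_unique (exists_induces hg).choose_spec h]
  exact hσ

theorem range_eq : blockHom.range = gammaSp :=
  Subgroup.eq_of_le_of_card_ge range_le (card_gammaSp_le.trans le_card_range)

theorem card_range_eq : Nat.card blockHom.range = 1958400 :=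
  le_antisymm ((Subgroup.card_le_of_le range_le).trans card_gammaSp_le) le_card_range

theorem blockHom_injective (hcard : Nat.card Q = 4030387200) : Function.Injective blockHom := by
  haveI : Finite stab0 := Nat.finite_of_card_ne_zero (by rw [card_stab0 hcard]; norm_num)
  have hb : Function.Bijective blockHom.rangeRestrict :=
    (Nat.bijective_iff_surjective_and_card _).2
      ⟨blockHom.rangeRestrict_surjective, by rw [card_stab0 hcard, card_range_eq]⟩
  intro x y h
  exact hb.1 (Subtype.ext h)

/-- The point stabiliser has a normal copy of `Sp₄(4)` of index two. -/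
theorem exists_sp_normal (hcard : Nat.card Q = 4030387200) :
    ∃ N : Subgroup stab0, N.Normal ∧ N.index = 2 ∧ Nonempty (N ≃* Sp) := by
  have hinj := blockHom_injective hcard
  let N := spPerm.range.comap blockHom
  have hle : spPerm.range ≤ blockHom.range := range_eq ▸ fun x hx => Or.inl hx
  have hmap : N.map blockHom = spPerm.range := Subgroup.map_comap_eq_self hle
  let e : N ≃* Sp := (N.equivMapOfInjective blockHom hinj).trans
    ((MulEquiv.subgroupCongr hmap).trans (MonoidHom.ofInjective spPerm_injective).symm)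
  have hN : Nat.card N = 979200 := (Nat.card_congr e.toEquiv).trans card_sp
  have hidx : N.index = 2 := by
    have h := Subgroup.card_mul_index N
    rw [hN, card_stab0 hcard] at h
    omega
  exact ⟨N, Subgroup.normal_of_index_eq_two hidx, hidx, ⟨e⟩⟩

end Cfsg.Agent.Suzuki.HeSp44
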